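/-
Project UP (S3575, helper73): package NEC - the number of moved points of an element of prime
order `r` of `S_{ab}` fixing a partition into `b` parts of size `a`.
-/
import Cfsg.Agent.Lib.Helper73.UP.Defs

set_option autoImplicit false

namespace Cfsg.Agent.Lib.Helper74.UP

open Equiv Cfsg.Agent.Lib.Helper73.UP

theorem lemNec_of (hI : LemInv) : LemNec := by
  intro a b r σ ha hr hord hex
  obtain ⟨f, hf, π, hπ⟩ := hex
  classical
  have hσr : σ ^ r = 1 := by rw [← hord]; exact pow_orderOf_eq_one σ
  -- fibres as finsets
  have hfib : ∀ y : Fin b, (Finset.univ.filter (fun x : Fin (a * b) => f x = y)).card = a := by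
    intro y
    have := hf y
    rw [Nat.card_eq_fintype_card, Fintype.card_subtype] at this
    exact this
  -- `f ∘ σ^k = π^k ∘ f`
  have hpow : ∀ (k : ℕ) (x : Fin (a * b)), f ((σ ^ k) x) = (π ^ k) (f x) := by
    intro k
    induction k with
    | zero => intro x; simp
    | succ k ih =>
      intro x
      rw [pow_succ', pow_succ', Perm.mul_apply, Perm.mul_apply, hπ, ih]
  have hπr : π ^ r = 1 := by
    refine Equiv.ext (fun y => ?_)
    have hpos : 0 < (Finset.univ.filter (fun x : Fin (a * b) => f x = y)).card := by
      rw [hfib]; exact ha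
    obtain ⟨x, hx⟩ := Finset.card_pos.mp hpos
    have hxy : f x = y := (Finset.mem_filter.mp hx).2
    rw [← hxy, ← hpow, hσr]
    rfl
  have hdvd : r ∣ π.support.card :=
    hI b r π π.support hr hπr (fun x hx => Perm.apply_mem_support.mpr hx)
      (fun x hx => Perm.mem_support.mp hx)
  obtain ⟨t, ht⟩ := hdvd
  have hMb : π.support.card ≤ b := by simpa using Finset.card_le_univ π.support
  refine ⟨t, ?_, ?_, ?_⟩
  · rw [mul_comm, ← ht]; exact hMb
  · -- lower bound
    have hsub : Finset.univ.filter (fun x => f x ∈ π.support) ⊆ σ.support := by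
      intro x hx
      rw [Finset.mem_filter] at hx
      rw [Perm.mem_support]
      intro hfix
      have := hπ x
      rw [hfix] at this
      exact (Perm.mem_support.mp hx.2) this.symm
    have hcard : (Finset.univ.filter (fun x => f x ∈ π.support)).card = π.support.card * a := by
      rw [Finset.card_eq_sum_card_fiberwise (f := f) (t := π.support)
        (by intro x hx; exact Finset.mem_coe.mpr (Finset.mem_filter.mp (Finset.mem_coe.mp hx)).2)]
      rw [Finset.sum_const_nat]
      intro y hy
      have : (Finset.univ.filter (fun x => f x ∈ π.support)).filter (fun x => f x = y)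
          = Finset.univ.filter (fun x => f x = y) := by
        ext x
        simp only [Finset.mem_filter, Finset.mem_univ, true_and]
        constructor
        · exact fun h => h.2
        · intro h; exact ⟨by rw [h]; exact hy, h⟩
      rw [this, hfib]
    calc t * a * r = π.support.card * a := by rw [ht]; ring
      _ = _ := hcard.symm
      _ ≤ σ.support.card := Finset.card_le_card hsub
  · -- upper bound
    have hsum : σ.support.card = ∑ y : Fin b, (σ.support.filter (fun x => f x = y)).card :=
      Finset.card_eq_sum_card_fiberwise (by intro x _; exact Finset.mem_coe.mpr (Finset.mem_univ _))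
    have hle1 : ∀ y : Fin b, (σ.support.filter (fun x => f x = y)).card ≤ a := by
      intro y
      refine le_trans (Finset.card_le_card ?_) (le_of_eq (hfib y))
      intro x hx
      rw [Finset.mem_filter] at hx ⊢
      exact ⟨Finset.mem_univ _, hx.2⟩
    have hle2 : ∀ y : Fin b, y ∉ π.support →
        (σ.support.filter (fun x => f x = y)).card ≤ r * (a / r) := by
      intro y hy
      have hfix : π y = y := Perm.notMem_support.mp hy
      have hdvd : r ∣ (σ.support.filter (fun x => f x = y)).card := by
        apply hI (a * b) r σ _ hr hσr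
        · intro x hx
          rw [Finset.mem_filter] at hx ⊢
          refine ⟨Perm.apply_mem_support.mpr hx.1, ?_⟩
          rw [hπ, hx.2, hfix]
        · intro x hx
          exact Perm.mem_support.mp (Finset.mem_filter.mp hx).1
      obtain ⟨k, hk⟩ := hdvd
      have h1 := hle1 y
      rw [hk] at h1 ⊢
      apply Nat.mul_le_mul_left
      rw [Nat.le_div_iff_mul_le hr.pos, mul_comm]
      exact h1
    have h1 : ∑ y ∈ π.support, (σ.support.filter (fun x => f x = y)).card
        ≤ π.support.card * a := by
      have := Finset.sum_le_card_nsmul π.support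
        (fun y => (σ.support.filter (fun x => f x = y)).card) a (fun y _ => hle1 y)
      simpa [smul_eq_mul] using this
    have h2 : ∑ y ∈ π.supportᶜ, (σ.support.filter (fun x => f x = y)).card
        ≤ (b - π.support.card) * (r * (a / r)) := by
      have := Finset.sum_le_card_nsmul π.supportᶜ
        (fun y => (σ.support.filter (fun x => f x = y)).card) (r * (a / r))
        (fun y hy => hle2 y (Finset.mem_compl.mp hy))
      rw [Finset.card_compl, Fintype.card_fin, smul_eq_mul] at this
      exact this
    rw [hsum, ← Finset.sum_add_sum_compl π.support]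
    refine le_trans (add_le_add h1 h2) ?_
    rw [ht] at hMb ⊢
    obtain ⟨d, hd⟩ := Nat.exists_eq_add_of_le hMb
    obtain ⟨q, hq⟩ : ∃ q, a / r = q := ⟨_, rfl⟩
    obtain ⟨l, hl⟩ : ∃ l, a % r = l := ⟨_, rfl⟩
    have hdiv : r * q + l = a := by rw [← hq, ← hl]; exact Nat.div_add_mod a r
    rw [hq, hl, hd, Nat.add_sub_cancel_left]
    apply le_of_eq
    calc r * t * a + d * (r * q) = r * t * (r * q + l) + d * (r * q) := by rw [hdiv]
      _ = r * ((r * t + d) * q + t * l) := by ring

end Cfsg.Agent.Lib.Helper74.UP
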